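import Groth.Agent.FCx40.Local
import Mathlib.RingTheory.LocalProperties.Projective

/-!
Kernels of maps to finite free modules and their fibres.
-/

set_option autoImplicit false
set_option linter.style.haveILetI false

universe u v w

namespace Groth.Agent.CAlg26

open TensorProduct LinearMap
open Function (Surjective Injective Exact)

variable {A : Type u} [CommRing A]
variable {M : Type v} {F : Type w} [AddCommGroup M] [Module A M] [AddCommGroup F] [Module A F]
variable (δ : M →ₗ[A] F)

theorem exact_ker_rangeRestrict : Exact (ker δ).subtype δ.rangeRestrict := by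
  rw [LinearMap.exact_iff, LinearMap.ker_rangeRestrict, Submodule.range_subtype]

theorem lTensor_comp_range (X : Type*) [AddCommGroup X] [Module A X] (z : X ⊗[A] M) :
    δ.lTensor X z = (range δ).subtype.lTensor X (δ.rangeRestrict.lTensor X z) := by
  rw [← LinearMap.comp_apply, ← lTensor_comp]; rfl

theorem exact_lTensor_iff (X : Type*) [AddCommGroup X] [Module A X] :
    Exact ((ker δ).subtype.lTensor X) (δ.lTensor X) ↔
      Injective ((range δ).subtype.lTensor X) := by
  have hs := δ.surjective_rangeRestrict
  have hex := lTensor_exact X (exact_ker_rangeRestrict δ) hs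
  constructor
  · intro h
    rw [injective_iff_map_eq_zero]
    intro z hz
    obtain ⟨w, rfl⟩ := LinearMap.lTensor_surjective X hs z
    rw [← lTensor_comp_range] at hz
    exact (hex w).2 ((h w).1 hz)
  · intro h z
    rw [lTensor_comp_range, map_eq_zero_iff _ h]
    exact hex z

section Local

variable (R : Type u) [CommRing R] [Algebra A R]
variable (κ : Type u) [CommRing κ] [Algebra A κ] [Algebra R κ] [IsScalarTower A R κ]

theorem injective_lTensor_baseChange_iff {X : Type*} {Y : Type*} [AddCommGroup X] [Module A X]
    [AddCommGroup Y] [Module A Y] (f : X →ₗ[A] Y) :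
    Injective ((f.baseChange R).lTensor κ) ↔ Injective (f.lTensor κ) := by
  let c := AlgebraTensorModule.cancelBaseChange A R R κ X
  let c' := AlgebraTensorModule.cancelBaseChange A R R κ Y
  have hc : ∀ w, c' ((f.baseChange R).lTensor κ w) = f.lTensor κ (c w) := by
    intro w
    induction w using TensorProduct.induction_on with
    | zero => simp
    | tmul s t =>
      induction t using TensorProduct.induction_on with
      | zero => simp
      | tmul b x => simp [c, c']
      | add x y hx hy => simp only [tmul_add, map_add, hx, hy]
    | add x y hx hy => simp only [map_add, hx, hy]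
  constructor
  · intro h a b hab
    obtain ⟨a, rfl⟩ := c.surjective a
    obtain ⟨b, rfl⟩ := c.surjective b
    rw [← hc, ← hc] at hab
    exact congrArg c (h (c'.injective hab))
  · intro h a b hab
    refine c.injective (h ?_)
    rw [← hc, ← hc, hab]

variable [IsLocalRing R] [Module.Flat A R]

/-- The three conditions at a local ring flat over the base. -/
theorem free_coker_iff [Module.Finite A M] [Module.Finite A F] [Module.Free A F] :
    (Injective ((range δ).subtype.lTensor (IsLocalRing.ResidueField R)) ↔
      Module.Free R (R ⊗[A] (F ⧸ range δ))) ∧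
    (Module.Free R (R ⊗[A] (F ⧸ range δ)) →
      Module.Free R (R ⊗[A] range δ) ∧
        Injective ((ker δ).subtype.lTensor (IsLocalRing.ResidueField R))) := by
  haveI : Module.Finite A (range δ) := Module.Finite.range δ
  let S := (range δ).subtype.baseChange R
  let q := (range δ).mkQ.baseChange R
  have hq : Surjective q := LinearMap.lTensor_surjective R (Submodule.mkQ_surjective _)
  have hSq : Exact S q :=
    lTensor_exact R (LinearMap.exact_subtype_mkQ _) (Submodule.mkQ_surjective _)
  have hS : Injective S :=
    Module.Flat.lTensor_preserves_injective_linearMap _ (Submodule.injective_subtype _)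
  have hsplit : Module.Free R (R ⊗[A] (F ⧸ range δ)) → ∃ l, l ∘ₗ S = LinearMap.id := by
    intro _
    exact ((Exact.split_tfae hSq hS hq).out 0 1).mp (Module.projective_lifting_property q _ hq)
  refine ⟨⟨fun h => ?_, fun h => ?_⟩, fun h => ?_⟩
  · exact Module.free_of_lTensor_residueField_injective S q hq hSq
      ((injective_lTensor_baseChange_iff R _ _).2 h)
  · exact (injective_lTensor_baseChange_iff R _ _).1
      ((IsLocalRing.split_injective_iff_lTensor_residueField_injective S).1 (hsplit h))
  · obtain ⟨l, hl⟩ := hsplit h
    haveI : Module.Projective R (R ⊗[A] range δ) := Module.Projective.of_split S l hl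
    have hfree : Module.Free R (R ⊗[A] range δ) := Module.free_of_flat_of_isLocalRing
    refine ⟨hfree, (injective_lTensor_baseChange_iff R _ _).1 ?_⟩
    let ι := (ker δ).subtype.baseChange R
    let r := δ.rangeRestrict.baseChange R
    have hr : Surjective r := LinearMap.lTensor_surjective R δ.surjective_rangeRestrict
    have hιr : Exact ι r := lTensor_exact R (exact_ker_rangeRestrict δ) δ.surjective_rangeRestrict
    have hι : Injective ι :=
      Module.Flat.lTensor_preserves_injective_linearMap _ (Submodule.injective_subtype _)
    obtain ⟨m, hm⟩ := ((Exact.split_tfae hιr hι hr).out 0 1).mp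
      (Module.projective_lifting_property r _ hr)
    refine Function.HasLeftInverse.injective ⟨m.lTensor (IsLocalRing.ResidueField R), fun z => ?_⟩
    rw [← LinearMap.comp_apply, ← lTensor_comp, hm, lTensor_id, LinearMap.id_apply]

end Local

section Model

variable (A M)

/-- A finite module has a model in the universe of the ring. -/
theorem exists_model [Module.Finite A M] :
    ∃ (n : ℕ) (K : Submodule A (Fin n → A)), Nonempty (M ≃ₗ[A] ((Fin n → A) ⧸ K)) := by
  obtain ⟨n, f, hf⟩ := Module.Finite.exists_fin' A M
  exact ⟨n, ker f, ⟨(f.quotKerEquivOfSurjective hf).symm⟩⟩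

theorem upperSemicontinuous_finrank_fibre [Module.Finite A M] :
    UpperSemicontinuous (fun x : PrimeSpectrum A =>
      Module.finrank x.asIdeal.ResidueField (x.asIdeal.ResidueField ⊗[A] M)) := by
  obtain ⟨n, K, ⟨e⟩⟩ := exists_model A M
  rw [show (fun x : PrimeSpectrum A =>
      Module.finrank x.asIdeal.ResidueField (x.asIdeal.ResidueField ⊗[A] M)) =
      FCx40.fib ((Fin n → A) ⧸ K) from funext fun x => (e.baseChange A _ _ _).finrank_eq]
  exact FCx40.upperSemicontinuous_fib _

theorem fib_localization (N : Type u) [AddCommGroup N] [Module A N] (x : PrimeSpectrum A)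
    (q : PrimeSpectrum (Localization.AtPrime x.asIdeal)) :
    FCx40.fib (Localization.AtPrime x.asIdeal ⊗[A] N) q =
      FCx40.fib N (PrimeSpectrum.comap (algebraMap A _) q) := by
  let R := Localization.AtPrime x.asIdeal
  let K := q.asIdeal.ResidueField
  let p := PrimeSpectrum.comap (algebraMap A R) q
  let K₀ := p.asIdeal.ResidueField
  letI : Algebra K₀ K := (Ideal.ResidueField.map p.asIdeal q.asIdeal (algebraMap A R) rfl).toAlgebra
  haveI : IsScalarTower A K₀ K := IsScalarTower.of_algebraMap_eq fun a => by
    show _ = Ideal.ResidueField.map p.asIdeal q.asIdeal (algebraMap A R) rfl (algebraMap A K₀ a)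
    rw [Ideal.ResidueField.map_algebraMap, ← IsScalarTower.algebraMap_apply]
  show Module.finrank K (K ⊗[R] (R ⊗[A] N)) = Module.finrank K₀ (K₀ ⊗[A] N)
  rw [(AlgebraTensorModule.cancelBaseChange A R K K N).finrank_eq,
    ← (AlgebraTensorModule.cancelBaseChange A K₀ K K N).finrank_eq, Module.finrank_baseChange]

/-- Over a reduced Noetherian ring, locally constant fibre dimension gives projectivity. -/
theorem projective_of_isLocallyConstant [IsNoetherianRing A] [IsReduced A] [Module.Finite A M]
    (h : IsLocallyConstant (fun x : PrimeSpectrum A =>
      Module.finrank x.asIdeal.ResidueField (x.asIdeal.ResidueField ⊗[A] M))) :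
    Module.Projective A M := by
  obtain ⟨n, K, ⟨e⟩⟩ := exists_model A M
  let N := (Fin n → A) ⧸ K
  rw [show (fun x : PrimeSpectrum A =>
      Module.finrank x.asIdeal.ResidueField (x.asIdeal.ResidueField ⊗[A] M)) =
      FCx40.fib N from funext fun x => (e.baseChange A _ _ _).finrank_eq] at h
  haveI : Module.FinitePresentation A N := Module.finitePresentation_of_finite A N
  have huniv : Module.freeLocus A N = Set.univ := by
    refine Set.eq_univ_of_forall fun x => ?_
    rw [Module.mem_freeLocus_iff_tensor x (Localization.AtPrime x.asIdeal)]
    haveI : IsReduced (Localization.AtPrime x.asIdeal) :=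
      isReduced_localizationPreserves x.asIdeal.primeCompl _ inferInstance
    refine FCx40.free_of_fib_eq _ fun q _ => ?_
    rw [fib_localization, fib_localization]
    exact (((IsLocalRing.specializes_closedPoint q).map (PrimeSpectrum.continuous_comap
      (algebraMap A (Localization.AtPrime x.asIdeal)))).map h.continuous).eq
  haveI := Module.freeLocus_eq_univ_iff.mp huniv
  exact Module.Projective.of_equiv e.symm

end Model

theorem finrank_ker_add (K : Type u) [Field K] [Algebra A K] [Module.Finite A M] [Module.Finite A F] :
    Module.finrank K (ker (δ.baseChange K)) + Module.finrank K (K ⊗[A] F) =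
      Module.finrank K (K ⊗[A] M) + Module.finrank K (K ⊗[A] (F ⧸ range δ)) := by
  have h1 := LinearMap.finrank_range_add_finrank_ker (δ.baseChange K)
  have h2 := Submodule.finrank_quotient_add_finrank (range (δ.baseChange K))
  have h3 : Module.finrank K ((K ⊗[A] F) ⧸ range (δ.baseChange K)) =
      Module.finrank K (K ⊗[A] (F ⧸ range δ)) := by
    refine LinearEquiv.finrank_eq ((Submodule.quotEquivOfEq _ (ker ((range δ).mkQ.baseChange K)) ?_).trans
      (((range δ).mkQ.baseChange K).quotKerEquivOfSurjective
        (LinearMap.lTensor_surjective K (Submodule.mkQ_surjective _))))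
    ext y
    exact (lTensor_exact K δ.exact_map_mkQ_range (Submodule.mkQ_surjective _) y).symm
  omega

end Groth.Agent.CAlg26
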