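import Mathlib

/-!
Lifting direct summands along a square zero ideal.
-/

set_option autoImplicit false

universe u v

namespace Groth.Agent.CAlg26.SummandLift

open TensorProduct

variable {R : Type u} [CommRing R] (𝔫 : Ideal R) {M N : Type v} [AddCommGroup M] [Module R M]
  [AddCommGroup N] [Module R N]

theorem mk_eq_zero_iff (x : M) : (1 : R ⧸ 𝔫) ⊗ₜ[R] x = 0 ↔ x ∈ 𝔫 • (⊤ : Submodule R M) := by
  rw [← (quotTensorEquivQuotSMul M 𝔫).map_eq_zero_iff, ← Submodule.Quotient.mk_eq_zero]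
  rw [← quotTensorEquivQuotSMul_symm_mk, LinearEquiv.apply_symm_apply]

theorem mk_eq_iff (x y : M) :
    (1 : R ⧸ 𝔫) ⊗ₜ[R] x = (1 : R ⧸ 𝔫) ⊗ₜ[R] y ↔ x - y ∈ 𝔫 • (⊤ : Submodule R M) := by
  rw [← mk_eq_zero_iff, tmul_sub, sub_eq_zero]

theorem mk_surj (b : (R ⧸ 𝔫) ⊗[R] M) : ∃ x, (1 : R ⧸ 𝔫) ⊗ₜ[R] x = b :=
  TensorProduct.mk_surjective R M (R ⧸ 𝔫) Ideal.Quotient.mk_surjective b

/-- The submodule of elements whose class lies in a submodule of the reduction. -/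
def lift (S : Submodule (R ⧸ 𝔫) ((R ⧸ 𝔫) ⊗[R] M)) : Submodule R M :=
  (S.restrictScalars R).comap (TensorProduct.mk R (R ⧸ 𝔫) M 1)

theorem mem_lift {S : Submodule (R ⧸ 𝔫) ((R ⧸ 𝔫) ⊗[R] M)} {x : M} :
    x ∈ lift 𝔫 S ↔ (1 : R ⧸ 𝔫) ⊗ₜ[R] x ∈ S := Iff.rfl

theorem smul_top_le_lift (S : Submodule (R ⧸ 𝔫) ((R ⧸ 𝔫) ⊗[R] M)) :
    𝔫 • (⊤ : Submodule R M) ≤ lift 𝔫 S := fun x hx => by
  rw [mem_lift, (mk_eq_zero_iff 𝔫 x).2 hx]; exact zero_mem _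

theorem mk_mem_baseChange (p : Submodule R M) (x : M) :
    (1 : R ⧸ 𝔫) ⊗ₜ[R] x ∈ p.baseChange (R ⧸ 𝔫) ↔ x ∈ p ⊔ 𝔫 • (⊤ : Submodule R M) := by
  constructor
  · intro h
    obtain ⟨z, hz⟩ := p.toBaseChange_surjective' _ h
    obtain ⟨a, rfl⟩ := mk_surj 𝔫 z
    rw [Submodule.coe_toBaseChange_tmul, eq_comm, mk_eq_iff] at hz
    exact Submodule.mem_sup.2 ⟨a, a.2, x - a, hz, by abel⟩
  · intro h
    obtain ⟨a, ha, m, hm, rfl⟩ := Submodule.mem_sup.1 h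
    rw [tmul_add, (mk_eq_zero_iff 𝔫 m).2 hm, add_zero]
    exact Submodule.tmul_mem_baseChange_of_mem _ ha

theorem baseChange_eq_iff (p : Submodule R M) (S : Submodule (R ⧸ 𝔫) ((R ⧸ 𝔫) ⊗[R] M)) :
    p.baseChange (R ⧸ 𝔫) = S ↔ p ⊔ 𝔫 • (⊤ : Submodule R M) = lift 𝔫 S := by
  constructor
  · rintro rfl
    ext x
    rw [mem_lift, mk_mem_baseChange]
  · intro h
    ext b
    obtain ⟨x, rfl⟩ := mk_surj 𝔫 b
    rw [mk_mem_baseChange, h, mem_lift]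

theorem map_smul_top_le (φ : M →ₗ[R] N) {x : M} (hx : x ∈ 𝔫 • (⊤ : Submodule R M)) :
    φ x ∈ 𝔫 • (⊤ : Submodule R N) := by
  have h := Submodule.mem_map_of_mem (f := φ) hx
  rw [Submodule.map_smul''] at h
  exact Submodule.smul_mono le_rfl le_top h

theorem exists_proj (p : Submodule R M) [Module.Projective R (M ⧸ p)] :
    ∃ π : M →ₗ[R] p, π ∘ₗ p.subtype = LinearMap.id :=
  ((Function.Exact.split_tfae (LinearMap.exact_subtype_mkQ p) p.injective_subtype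
    p.mkQ_surjective).out 0 1).mp (Module.projective_lifting_property _ _ p.mkQ_surjective)

theorem exists_isCompl (p : Submodule R M) [Module.Projective R (M ⧸ p)] : ∃ C, IsCompl p C := by
  obtain ⟨π, hπ⟩ := exists_proj p
  exact ⟨_, LinearMap.isCompl_of_proj fun x => LinearMap.congr_fun hπ x⟩

theorem mem_smul_of_mem (p : Submodule R M) [Module.Projective R (M ⧸ p)] {x : M} (hx : x ∈ p)
    (hx' : x ∈ 𝔫 • (⊤ : Submodule R M)) : x ∈ 𝔫 • p := by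
  obtain ⟨π, hπ⟩ := exists_proj p
  have h : p.subtype (π x) ∈ 𝔫 • p := by
    have h := Submodule.mem_map_of_mem (f := p.subtype) (map_smul_top_le 𝔫 π hx')
    rwa [Submodule.map_smul'', Submodule.map_subtype_top] at h
  rwa [show π x = ⟨x, hx⟩ from LinearMap.congr_fun hπ ⟨x, hx⟩] at h

section Seq

variable {H₁ H H₂ : Type v} [AddCommGroup H₁] [Module R H₁] [AddCommGroup H] [Module R H]
  [AddCommGroup H₂] [Module R H₂] {f : H₁ →ₗ[R] H} {g : H →ₗ[R] H₂}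
  (hf : Function.Injective f) (hg : Function.Surjective g) (hfg : Function.Exact f g)
  {F₁ : Submodule R H₁} {F₂ : Submodule R H₂}

include hf hg hfg in
/-- A submodule with summand traces on both sides is a summand. -/
theorem exists_compl [Module.Projective R H₂] [Module.Projective R (H₁ ⧸ F₁)]
    [Module.Projective R (H₂ ⧸ F₂)] (F : Submodule R H) (h1 : F ⊓ LinearMap.range f = F₁.map f)
    (h2 : F.map g = F₂) : ∃ C : Submodule R H, IsCompl F C := by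
  obtain ⟨C₁, hC₁⟩ := exists_isCompl F₁
  obtain ⟨C₂, hC₂⟩ := exists_isCompl F₂
  obtain ⟨σ, hσ⟩ := Module.projective_lifting_property g LinearMap.id hg
  have hσ' : ∀ y, g (σ y) = y := LinearMap.congr_fun hσ
  refine ⟨C₁.map f ⊔ C₂.map σ, disjoint_iff_inf_le.2 fun x hx => ?_, codisjoint_iff_le_sup.2 fun x _ => ?_⟩
  · obtain ⟨_, ⟨c, hc, rfl⟩, _, ⟨w, hw, rfl⟩, hxe⟩ := Submodule.mem_sup.1 hx.2
    have hgx : g x = w := by rw [← hxe, map_add, hfg.apply_apply_eq_zero, hσ', zero_add]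
    have hw0 : w = 0 := (Submodule.disjoint_def.1 hC₂.disjoint) w
      (h2 ▸ hgx ▸ Submodule.mem_map_of_mem hx.1) hw
    rw [hw0, map_zero, add_zero] at hxe
    subst hxe
    obtain ⟨a, ha, hae⟩ := h1.le (show f c ∈ F ⊓ LinearMap.range f from ⟨hx.1, c, rfl⟩)
    obtain rfl := hf hae
    rw [(Submodule.disjoint_def.1 hC₁.disjoint) a ha hc, map_zero]
    exact zero_mem _
  · obtain ⟨y, hy, w, hw, hyw⟩ := Submodule.mem_sup.1
      (hC₂.sup_eq_top ▸ Submodule.mem_top : g x ∈ F₂ ⊔ C₂)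
    obtain ⟨z, hz, rfl⟩ := h2 ▸ hy
    obtain ⟨t, ht⟩ := (hfg (x - z - σ w)).1 (by rw [map_sub, map_sub, hσ', ← hyw]; abel)
    obtain ⟨a, ha, c, hc, rfl⟩ := Submodule.mem_sup.1 (hC₁.sup_eq_top ▸ Submodule.mem_top : t ∈ F₁ ⊔ C₁)
    refine Submodule.mem_sup.2 ⟨z + f a, add_mem hz
      ((h1.ge (Submodule.mem_map_of_mem ha)).1), f c + σ w,
      add_mem (Submodule.mem_sup_left (Submodule.mem_map_of_mem hc))
        (Submodule.mem_sup_right (Submodule.mem_map_of_mem hw)), ?_⟩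
    rw [map_add] at ht
    linear_combination (norm := module) ht

variable {Fb : Submodule (R ⧸ 𝔫) ((R ⧸ 𝔫) ⊗[R] H)}

include hf hg hfg in
/-- Translation of the hypotheses on the reduction. -/
theorem lift_facts [Module.Projective R H₂]
    (h1 : Fb ⊓ LinearMap.range (f.baseChange (R ⧸ 𝔫)) =
      Submodule.map (f.baseChange (R ⧸ 𝔫)) (F₁.baseChange (R ⧸ 𝔫)))
    (h2 : Submodule.map (g.baseChange (R ⧸ 𝔫)) Fb = F₂.baseChange (R ⧸ 𝔫)) :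
    (∀ a, f a ∈ lift 𝔫 Fb ↔ a ∈ F₁ ⊔ 𝔫 • ⊤) ∧
      (∀ x ∈ lift 𝔫 Fb, g x ∈ F₂ ⊔ 𝔫 • ⊤) ∧ ∀ y ∈ F₂, ∃ x ∈ lift 𝔫 Fb, g x = y := by
  obtain ⟨ρ, hρ⟩ : ∃ ρ, ρ ∘ₗ f = LinearMap.id :=
    ((Function.Exact.split_tfae hfg hf hg).out 0 1).mp (Module.projective_lifting_property g _ hg)
  refine ⟨fun a => ⟨fun h => ?_, fun h => ?_⟩, fun x hx => ?_, fun y hy => ?_⟩
  · obtain ⟨b, hb, hbe⟩ := h1.le (show (1 : R ⧸ 𝔫) ⊗ₜ[R] f a ∈ _ from
      ⟨h, (1 : R ⧸ 𝔫) ⊗ₜ a, LinearMap.baseChange_tmul ..⟩)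
    obtain ⟨c, rfl⟩ := mk_surj 𝔫 b
    rw [LinearMap.baseChange_tmul, eq_comm, mk_eq_iff, ← map_sub] at hbe
    have h' := map_smul_top_le 𝔫 ρ hbe
    rw [← LinearMap.comp_apply, hρ, LinearMap.id_apply] at h'
    have hc : c ∈ F₁ ⊔ 𝔫 • ⊤ := (mk_mem_baseChange 𝔫 F₁ c).1 hb
    simpa using add_mem (Submodule.mem_sup_right h') hc
  · have := Submodule.mem_map_of_mem (f := f.baseChange (R ⧸ 𝔫)) ((mk_mem_baseChange 𝔫 F₁ a).2 h)
    rw [LinearMap.baseChange_tmul] at this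
    exact (h1.ge this).1
  · have := Submodule.mem_map_of_mem (f := g.baseChange (R ⧸ 𝔫)) (show (1 : R ⧸ 𝔫) ⊗ₜ x ∈ Fb from hx)
    rw [LinearMap.baseChange_tmul, h2] at this
    exact (mk_mem_baseChange 𝔫 F₂ _).1 this
  · obtain ⟨b, hb, hbe⟩ := h2.ge (Submodule.tmul_mem_baseChange_of_mem (1 : R ⧸ 𝔫) hy)
    obtain ⟨x, rfl⟩ := mk_surj 𝔫 b
    rw [LinearMap.baseChange_tmul, mk_eq_iff] at hbe
    have hle : 𝔫 • (⊤ : Submodule R H₂) ≤ (𝔫 • (⊤ : Submodule R H)).map g := by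
      rw [Submodule.map_smul'', Submodule.map_top, LinearMap.range_eq_top.2 hg]
    obtain ⟨m, hm, hme⟩ := hle hbe
    exact ⟨x - m, sub_mem hb (smul_top_le_lift 𝔫 Fb hm), by rw [map_sub, hme]; abel⟩

end Seq

end Groth.Agent.CAlg26.SummandLift
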