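import Groth.Agent.FCx40.TorSeq
import Mathlib.Algebra.Homology.HomologySequenceLemmas

/-!
Maps on `Tor₁` induced in the second variable.
-/

set_option autoImplicit false

universe u

open CategoryTheory CategoryTheory.Limits MonoidalCategory TensorProduct LinearMap
open Groth.Agent.TorBal94 Groth.Agent.FCx40

namespace Groth.Agent.CAlg26

variable {A : Type u} [CommRing A]

/-- Functoriality of `Y ⊗ (resolution)` in the resolution. -/
noncomputable def cxMapR (Y : ModuleCat.{u} A) {S S' : ModuleCat.{u} A}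
    (φ : (projectiveResolution S).complex ⟶ (projectiveResolution S').complex) : cx Y S ⟶ cx Y S' :=
  (((tensoringLeft (ModuleCat.{u} A)).obj Y).mapHomologicalComplex _).map φ

theorem cxMap_comm {Y Z : ModuleCat.{u} A} (g : Y ⟶ Z) {S S' : ModuleCat.{u} A}
    (φ : (projectiveResolution S).complex ⟶ (projectiveResolution S').complex) :
    cxMapR Y φ ≫ cxMap g S' = cxMap g S ≫ cxMapR Z φ :=
  (NatTrans.mapHomologicalComplex ((tensoringLeft (ModuleCat.{u} A)).map g) _).naturality φ

theorem e0_natural_right (Y : ModuleCat.{u} A) {S S' : ModuleCat.{u} A} (f : S ⟶ S')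
    (φ : (projectiveResolution S).complex ⟶ (projectiveResolution S').complex)
    (w : φ ≫ (projectiveResolution S').π =
      (projectiveResolution S).π ≫ (ChainComplex.single₀ _).map f)
    (t : (cx Y S).homology 0) :
    e0 Y S' ((HomologicalComplex.homologyMap (cxMapR Y φ) 0).hom t) =
      f.hom.lTensor Y (e0 Y S t) := by
  obtain ⟨x, rfl⟩ := cls0_surjective Y S t
  have h1 : (HomologicalComplex.homologyMap (cxMapR Y φ) 0).hom (cls0 Y S x) =
      cls0 Y S' (((cxMapR Y φ).f 0).hom x) := hcls_map (cxMapR Y φ) (j := 0) (k := 0) (by simp) _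
  rw [h1, e0, e0, sameKerEquiv_apply, sameKerEquiv_apply]
  have w0 := congrArg ModuleCat.Hom.hom (HomologicalComplex.congr_hom w 0)
  simp only [HomologicalComplex.comp_f, ModuleCat.hom_comp] at w0
  rw [ChainComplex.single₀_map_f_zero] at w0
  have key : ∀ z : Y ⊗[A] (projectiveResolution S).complex.X 0,
      LinearMap.lTensor Y ((projectiveResolution S').π.f 0).hom (LinearMap.lTensor Y (φ.f 0).hom z) =
        LinearMap.lTensor Y f.hom (LinearMap.lTensor Y ((projectiveResolution S).π.f 0).hom z) :=
    fun z => ((lTensor_comp_apply Y _ _ z).symm.trans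
      (congrArg (fun g => LinearMap.lTensor Y g z) w0)).trans (lTensor_comp_apply Y _ _ z)
  exact key x

variable {N F H : Type u} [AddCommGroup N] [Module A N] [AddCommGroup F] [Module A F]
  [AddCommGroup H] [Module A H] (ι : N →ₗ[A] F) (π : F →ₗ[A] H)

variable {ι π} in
/-- A map in the second variable kills `Tor₁` when it kills the kernel of `N ⊗ S → F ⊗ S`. -/
theorem tor_one_map_eq_zero [Module.Flat A F] (hι : Function.Injective ι) (he : Function.Exact ι π)
    (hπ : Function.Surjective π) {S S' : ModuleCat.{u} A} (f : S ⟶ S')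
    (h : ∀ y : N ⊗[A] S, ι.rTensor S y = 0 → f.hom.lTensor N y = 0) :
    ((Tor (ModuleCat.{u} A) 1).obj (ModuleCat.of A H)).map f = 0 := by
  let P := projectiveResolution S
  let P' := projectiveResolution S'
  let φ := ProjectiveResolution.lift f P P'
  have w := ProjectiveResolution.lift_commutes f P P'
  show (((tensoringLeft (ModuleCat.{u} A)).obj (ModuleCat.of A H)).leftDerived 1).map f = 0
  rw [Functor.leftDerived_map_eq _ 1 f φ w]
  have hS := shortExact_cx ι π hι he hπ S
  have hS' := shortExact_cx ι π hι he hπ S'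
  have hmono : Mono (hS'.δ 1 0 rfl) :=
    hS'.mono_δ 1 0 rfl ((isZero_tor_iff _ _ _).1 (isZero_tor_of_flat_left F S' 0))
  have hnat := HomologicalComplex.HomologySequence.δ_naturality
    (⟨cxMapR _ φ, cxMapR _ φ, cxMapR _ φ, cxMap_comm _ φ, cxMap_comm _ φ⟩ :
      ShortComplex.mk _ _ (cxMap_comp_eq_zero ι π he.linearMap_comp_eq_zero S) ⟶
        ShortComplex.mk _ _ (cxMap_comp_eq_zero ι π he.linearMap_comp_eq_zero S'))
    hS hS' 1 0 rfl
  have hzero : hS.δ 1 0 rfl ≫ HomologicalComplex.homologyMap (cxMapR (ModuleCat.of A N) φ) 0 = 0 := by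
    refine ModuleCat.hom_ext (LinearMap.ext fun t => (e0 (ModuleCat.of A N) S').injective ?_)
    refine ((e0_natural_right _ f φ w ((hS.δ 1 0 rfl).hom t)).trans ?_).trans (map_zero _).symm
    refine h _ ((e0_natural (ModuleCat.ofHom ι) S _).symm.trans ?_)
    have hz := congrArg (fun F => F.hom t) (hS.δ_comp 1 0 rfl)
    exact (congrArg _ hz).trans (map_zero _)
  have h0 : HomologicalComplex.homologyMap (cxMapR (ModuleCat.of A H) φ) 1 = 0 := by
    rw [← cancel_mono (hS'.δ 1 0 rfl), ← hnat, hzero, Limits.zero_comp]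
  exact (congrArg (fun F => _ ≫ F ≫ _) h0).trans (by rw [Limits.zero_comp, Limits.comp_zero])

end Groth.Agent.CAlg26
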