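import Groth.Agent.FCx40.TorSeq
import Mathlib.RingTheory.Regular.RegularSequence

/-!
Regular sequences and the vanishing of `Tor`.
-/

set_option autoImplicit false
set_option linter.style.haveILetI false

universe u

open CategoryTheory CategoryTheory.Limits MonoidalCategory TensorProduct LinearMap
open Groth.Agent.TorBal94 Groth.Agent.FCx40
open RingTheory.Sequence

namespace Groth.Agent.CAlg26

variable {A : Type u} [CommRing A]

theorem finite_tor [IsNoetherianRing A] : ∀ (i : ℕ) (X N : Type u) [AddCommGroup X] [Module A X]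
    [AddCommGroup N] [Module A N] [Module.Finite A X] [Module.Finite A N],
    Module.Finite A ((cx (ModuleCat.of A X) (ModuleCat.of A N)).homology (i + 1)) := by
  intro i
  induction i with
  | zero =>
    intro X N _ _ _ _ _ _
    obtain ⟨r, π, hπ⟩ := Module.Finite.exists_fin' A X
    haveI : Module.Finite A (ker π) := Module.Finite.of_fg (IsNoetherian.noetherian _)
    obtain ⟨e⟩ := nonempty_torOne_equiv (ι := (ker π).subtype) (π := π) N (Submodule.injective_subtype _)
      (LinearMap.exact_subtype_ker_map π) hπ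
    haveI hfin : Module.Finite A (ker π ⊗[A] N) := Module.Finite.tensorProduct A (ker π) N
    haveI : IsNoetherian A (ker π ⊗[A] N) := @isNoetherian_of_isNoetherianRing_of_finite A (ker π ⊗[A] N) _ TensorProduct.addCommGroup _ _ hfin
    haveI : Module.Finite A (ker ((ker π).subtype.rTensor N)) :=
      Module.Finite.of_fg (IsNoetherian.noetherian _)
    exact Module.Finite.equiv (e.trans (torEquiv 1 X N))
  | succ i ih =>
    intro X N _ _ _ _ _ _
    obtain ⟨r, π, hπ⟩ := Module.Finite.exists_fin' A X
    haveI : Module.Finite A (ker π) := Module.Finite.of_fg (IsNoetherian.noetherian _)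
    obtain ⟨e⟩ := nonempty_torSucc_equiv (ι := (ker π).subtype) (π := π) N (Submodule.injective_subtype _)
      (LinearMap.exact_subtype_ker_map π) hπ i
    haveI := ih (ker π) N
    exact Module.Finite.equiv ((torEquiv (i + 1) (ker π) N).symm.trans
      (e.symm.trans (torEquiv (i + 2) X N)))

theorem homologyMap_smul_id (y : A) (X S : ModuleCat.{u} A) (i : ℕ) (t : (cx X S).homology i) :
    (HomologicalComplex.homologyMap (cxMap (ModuleCat.ofHom (y • LinearMap.id : X →ₗ[A] X)) S) i).hom t =
      y • t := by
  obtain ⟨z, rfl⟩ := hcls_surjective (K := cx X S) (j := i)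
    (k := (ComplexShape.down ℕ).next i) rfl t
  refine (hcls_map (cxMap _ S) rfl z).trans ?_
  rw [← map_smul]
  refine congrArg _ (Subtype.ext ?_)
  have key : ∀ w : X ⊗[A] (projectiveResolution S).complex.X i,
      LinearMap.rTensor ((projectiveResolution S).complex.X i) (y • LinearMap.id : X →ₗ[A] X) w = y • w :=
    fun w => by rw [rTensor_smul, rTensor_id]; rfl
  exact key _

variable [IsNoetherianRing A] [IsLocalRing A]

/-- One step of the comparison. -/
theorem tor_step {X X' N : Type u} [AddCommGroup X] [Module A X] [Module.Finite A X] [AddCommGroup X']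
    [Module A X'] [AddCommGroup N] [Module A N] [Module.Finite A N] {y : A}
    (hy : y ∈ IsLocalRing.maximalIdeal A) (g : X →ₗ[A] X') (hreg : IsSMulRegular X y)
    (hex : Function.Exact (y • LinearMap.id : X →ₗ[A] X) g) (hg : Function.Surjective g) :
    (∀ i, IsZero ((cx (ModuleCat.of A X') (ModuleCat.of A N)).homology (i + 1))) ↔
      (∀ i, IsZero ((cx (ModuleCat.of A X) (ModuleCat.of A N)).homology (i + 1))) ∧
        IsSMulRegular (X ⊗[A] N) y := by
  let S := ModuleCat.of A N
  let f : X →ₗ[A] X := y • LinearMap.id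
  have hS := shortExact_cx f g hreg hex hg S
  let μ := fun i => (HomologicalComplex.homologyMap (cxMap (ModuleCat.ofHom f) S) i)
  have hmono0 : Mono (μ 0) ↔ IsSMulRegular (X ⊗[A] N) y := by
    rw [ModuleCat.mono_iff_injective]
    have hcomm : (e0 (ModuleCat.of A X) S) ∘ (μ 0).hom = f.rTensor N ∘ (e0 (ModuleCat.of A X) S) :=
      funext fun t => e0_natural (ModuleCat.ofHom f) S t
    have hfN : f.rTensor N = y • (LinearMap.id : X ⊗[A] N →ₗ[A] X ⊗[A] N) := by
      rw [rTensor_smul, rTensor_id]
    calc Function.Injective (μ 0).hom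
        ↔ Function.Injective ((e0 (ModuleCat.of A X) S) ∘ (μ 0).hom) :=
          ((e0 (ModuleCat.of A X) S).injective.of_comp_iff _).symm
      _ ↔ Function.Injective (f.rTensor N ∘ (e0 (ModuleCat.of A X) S)) := by rw [hcomm]
      _ ↔ Function.Injective (f.rTensor N) :=
          Function.Injective.of_comp_iff' _ (e0 (ModuleCat.of A X) S).bijective
      _ ↔ IsSMulRegular (X ⊗[A] N) y := by rw [hfN]; exact Iff.rfl
  constructor
  · intro h
    have hm : ∀ i, Mono (μ i) := fun i => by
      have h1 := hS.homology_exact₁ (i + 1) i rfl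
      rw [ShortComplex.exact_iff_mono _ ((h i).eq_of_src _ _)] at h1
      exact h1
    refine ⟨fun i => ?_, hmono0.1 (hm 0)⟩
    have h2 := hS.homology_exact₂ (i + 1)
    rw [ShortComplex.exact_iff_epi _ ((h i).eq_of_tgt _ _)] at h2
    have hs := (ModuleCat.epi_iff_surjective _).1 h2
    haveI : Module.Finite A ((cx (ModuleCat.of A X) S).homology (i + 1)) := finite_tor (A := A) i X N
    let H := (cx (ModuleCat.of A X) S).homology (i + 1)
    haveI : Subsingleton H := by
      rw [Submodule.subsingleton_iff A |>.symm]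
      refine subsingleton_iff_bot_eq_top.1 (Eq.symm ?_)
      refine Submodule.eq_bot_of_le_smul_of_le_jacobson_bot (IsLocalRing.maximalIdeal A) ⊤
        Module.Finite.fg_top (fun t _ => ?_) (IsLocalRing.maximalIdeal_le_jacobson _)
      obtain ⟨w, rfl⟩ := hs t
      exact (homologyMap_smul_id y _ S (i + 1) w).symm ▸ Submodule.smul_mem_smul hy trivial
    exact ModuleCat.isZero_of_subsingleton _
  · rintro ⟨h, hr⟩ i
    rcases i with _ | i
    · have h3 := hS.homology_exact₃ 1 0 rfl
      rw [ShortComplex.exact_iff_mono _ ((h 0).eq_of_src _ _)] at h3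
      haveI : Mono (hS.δ 1 0 rfl) := h3
      haveI := hmono0.2 hr
      exact IsZero.of_mono_eq_zero (hS.δ 1 0 rfl)
        ((cancel_mono (μ 0)).1 ((hS.δ_comp 1 0 rfl).trans Limits.zero_comp.symm))
    · exact (hS.homology_exact₃ (i + 2) (i + 1) rfl).isZero_of_both_zeros
        ((h (i + 1)).eq_of_src _ _) ((h i).eq_of_tgt _ _)

omit [IsLocalRing A] [IsNoetherianRing A] in
theorem isZero_congr {X X' : Type u} [AddCommGroup X] [Module A X] [AddCommGroup X'] [Module A X']
    (e : X ≃ₗ[A] X') (S : ModuleCat.{u} A) (i : ℕ)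
    (h : IsZero (((Tor (ModuleCat.{u} A) i).obj (ModuleCat.of A X)).obj S)) :
    IsZero (((Tor (ModuleCat.{u} A) i).obj (ModuleCat.of A X')).obj S) :=
  h.of_iso (((Tor (ModuleCat.{u} A) i).mapIso e.symm.toModuleIso).app S)

/-- A regular sequence on the ring is regular on a finite module iff the higher `Tor` vanish. -/
theorem isWeaklyRegular_iff_tor (N : Type u) [AddCommGroup N] [Module A N] [Module.Finite A N] :
    ∀ (rs : List A), (∀ r ∈ rs, r ∈ IsLocalRing.maximalIdeal A) → IsWeaklyRegular A rs →
      (IsWeaklyRegular N rs ↔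
        ∀ i, IsZero ((cx (ModuleCat.of A (A ⧸ Ideal.ofList rs)) (ModuleCat.of A N)).homology (i + 1))) := by
  intro rs
  induction rs using List.reverseRecOn with
  | nil =>
    intro _ _
    refine iff_of_true (IsWeaklyRegular.nil A N) fun i => ?_
    haveI : Module.Flat A (A ⧸ Ideal.ofList ([] : List A)) :=
      Module.Flat.of_linearEquiv (Submodule.quotEquivOfEqBot _ Ideal.ofList_nil)
    exact (isZero_tor_iff _ _ _).1 (isZero_tor_of_flat_left _ _ i)
  | append_singleton l y ih =>
    intro hm hreg
    rw [isWeaklyRegular_append_iff, isWeaklyRegular_singleton_iff] at hreg ⊢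
    have hy : y ∈ IsLocalRing.maximalIdeal A := hm y (by simp)
    let I := Ideal.ofList l
    let J := Ideal.ofList (l ++ [y])
    have hJ : J = I ⊔ Ideal.span {y} := by simp [J, I, Ideal.ofList_append]
    have hIJ : I ≤ J := hJ ▸ le_sup_left
    let e₁ : (A ⧸ Ideal.ofList l • (⊤ : Submodule A A)) ≃ₗ[A] A ⧸ I :=
      Submodule.quotEquivOfEq _ _ (by rw [Ideal.smul_eq_mul, Ideal.mul_top])
    have hyX : IsSMulRegular (A ⧸ I) y := (e₁.isSMulRegular_congr y).1 hreg.2
    have hex : Function.Exact (y • LinearMap.id : (A ⧸ I) →ₗ[A] (A ⧸ I)) (Submodule.factor hIJ) := by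
      intro z
      obtain ⟨a, rfl⟩ := Submodule.Quotient.mk_surjective _ z
      rw [show Submodule.factor hIJ (Submodule.Quotient.mk a) = Submodule.Quotient.mk a from rfl,
        Submodule.Quotient.mk_eq_zero, hJ, Submodule.mem_sup]
      constructor
      · rintro ⟨b, hb, c, hc, rfl⟩
        obtain ⟨d, rfl⟩ := Ideal.mem_span_singleton'.1 hc
        refine ⟨Submodule.Quotient.mk d, ?_⟩
        show y • (Submodule.Quotient.mk d : A ⧸ I) = _
        rw [← Submodule.Quotient.mk_smul, Submodule.Quotient.eq, smul_eq_mul]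
        simpa [mul_comm] using I.neg_mem hb
      · rintro ⟨w, hw⟩
        obtain ⟨d, rfl⟩ := Submodule.Quotient.mk_surjective _ w
        change y • (Submodule.Quotient.mk d : A ⧸ I) = _ at hw
        rw [← Submodule.Quotient.mk_smul, Submodule.Quotient.eq, smul_eq_mul] at hw
        exact ⟨a - y * d, by simpa using I.neg_mem hw, y * d,
          Ideal.mem_span_singleton'.2 ⟨d, mul_comm _ _⟩, by ring⟩
    rw [tor_step hy (Submodule.factor hIJ) hyX hex (Submodule.factor_surjective hIJ),
      ← ih (fun r hr => hm r (by simp [hr])) hreg.1,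
      ← (TensorProduct.quotTensorEquivQuotSMul N I).isSMulRegular_congr y]

end Groth.Agent.CAlg26
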